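import Groth.Prelude.Def_PBC
import Groth.Agent.H3.HenselEtale2
import Groth.Agent.H4.IndCover

/-!
# Maps from ind-étale algebras to henselian local rings

`existsUnique_lift`: for a henselian local `R`-algebra `T` with "residue field" `v : T → K`,
and `A` étale over `R`, maps `A → K` lift uniquely to `A → T`.
`existsUnique_algHom`: the same for `S` ind-étale over `R`.
`existsUnique_algEquiv`: two henselian local ind-étale `R`-algebras with the same residue field
`K` are uniquely isomorphic over `K`.
-/

set_option autoImplicit false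
universe u
open CategoryTheory CategoryTheory.Limits IsLocalRing

namespace Groth.Agent.H78.IndEtHens

section lift

variable {R : Type u} [CommRing R] {T K : Type u} [CommRing T] [HenselianLocalRing T] [Field K]
  [Algebra R T] [Algebra R K] (v : T →ₐ[R] K) (hv : Function.Surjective v)
  (hker : RingHom.ker v.toRingHom = maximalIdeal T)

include hv hker in
theorem existsUnique_lift (A : Type u) [CommRing A] [Algebra R A] [Algebra.Etale R A]
    (σ : A →ₐ[R] K) : ∃! f : A →ₐ[R] T, v.comp f = σ := by
  let θ : ResidueField T →ₐ[R] K := Ideal.Quotient.liftₐ (maximalIdeal T) v (fun a ha => by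
    rw [← hker] at ha; exact ha)
  have hθ : ∀ t : T, θ (residue T t) = v t := fun t => rfl
  have hθbij : Function.Bijective θ := by
    refine ⟨θ.toRingHom.injective, ?_⟩
    intro k
    obtain ⟨t, rfl⟩ := hv k
    exact ⟨residue T t, hθ t⟩
  let θ' : ResidueField T ≃ₐ[R] K := AlgEquiv.ofBijective θ hθbij
  have hθ' : ∀ x, θ' x = θ x := fun x => rfl
  have hcomp : ∀ g : A →ₐ[R] T, v.comp g = σ ↔
      (IsScalarTower.toAlgHom R T (ResidueField T)).comp g = θ'.symm.toAlgHom.comp σ := by
    intro g
    constructor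
    · intro h
      ext a
      have : θ' (residue T (g a)) = σ a := by rw [hθ', hθ, ← h]; rfl
      change residue T (g a) = θ'.symm (σ a)
      rw [← this, AlgEquiv.symm_apply_apply]
    · intro h
      ext a
      have h1 : residue T (g a) = θ'.symm (σ a) := congrArg (fun φ : A →ₐ[R] ResidueField T => φ a) h
      change v (g a) = σ a
      rw [← hθ, h1, ← hθ', AlgEquiv.apply_symm_apply]
  obtain ⟨f, hf, huniq⟩ := Groth.Agent.H3.existsUnique_lift_of_etale R T A (θ'.symm.toAlgHom.comp σ)
  exact ⟨f, (hcomp f).mpr hf, fun g hg => huniq g ((hcomp g).mp hg)⟩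

end lift

section indEtale

attribute [local instance] Groth.Agent.H4.IndCover.algStage

open Groth.Agent.H4.IndCover

variable {R : Type u} [CommRing R] {S T K : Type u} [CommRing S] [CommRing T] [HenselianLocalRing T]
  [Field K] [Algebra R S] [Algebra R T] [Algebra R K]

theorem existsUnique_algHom (hS : EtPBC.IsIndEtale R S) (v : T →ₐ[R] K)
    (hv : Function.Surjective v) (hker : RingHom.ker v.toRingHom = maximalIdeal T)
    (u : S →ₐ[R] K) : ∃! φ : S →ₐ[R] T, v.comp φ = u := by
  obtain ⟨J, hJ, hJf, D, c, hc, het, ⟨e⟩⟩ := hS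
  have het' : ∀ j, Algebra.Etale R (D.obj j).right := het
  have hex : ∀ j, ∃! f : (D.obj j).right →ₐ[R] T, v.comp f = u.comp (toB D c e j) :=
    fun j => existsUnique_lift v hv hker (D.obj j).right (u.comp (toB D c e j))
  choose f hf hfuniq using hex
  have hcompat : ∀ {j j' : J} (g : j ⟶ j'), (f j').comp (trans D g) = f j := by
    intro j j' g
    apply hfuniq
    rw [← AlgHom.comp_assoc, hf, AlgHom.comp_assoc, toB_comp_trans]
  -- the cocone
  let s : Cocone D :=
    { pt := Under.mk (CommRingCat.ofHom (algebraMap R T))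
      ι :=
        { app := fun j => Under.homMk (CommRingCat.ofHom (f j).toRingHom) (by
            ext a
            exact (f j).commutes a)
          naturality := by
            intro j j' g
            ext x
            have := congrArg (fun φ : (D.obj j).right →ₐ[R] T => φ x) (hcompat g)
            exact this } }
  let φ0 : Under.mk (CommRingCat.ofHom (algebraMap R S)) ⟶
      Under.mk (CommRingCat.ofHom (algebraMap R T)) := e.inv ≫ hc.desc s
  let φ : S →ₐ[R] T :=
    { toRingHom := φ0.right.hom
      commutes' := fun a => by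
        have := Under.w φ0
        exact congrArg (fun ψ => ψ.hom a) this }
  have hφ : ∀ j (y : (D.obj j).right), φ (toB D c e j y) = f j y := by
    intro j y
    have h1 : (c.ι.app j ≫ e.hom) ≫ φ0 = s.ι.app j := by
      change (c.ι.app j ≫ e.hom) ≫ e.inv ≫ hc.desc s = s.ι.app j
      rw [Category.assoc, e.hom_inv_id_assoc, hc.fac]
    exact congrArg (fun ψ : D.obj j ⟶ s.pt => ψ.right.hom y) h1
  have hsurj := surj D c hc e
  refine ⟨φ, ?_, ?_⟩
  · ext x
    obtain ⟨j, y, rfl⟩ := hsurj x
    change v (φ (toB D c e j y)) = u (toB D c e j y)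
    rw [hφ]
    exact congrArg (fun ψ : (D.obj j).right →ₐ[R] K => ψ y) (hf j)
  · intro ψ hψ
    ext x
    obtain ⟨j, y, rfl⟩ := hsurj x
    rw [hφ]
    have : ψ.comp (toB D c e j) = f j := by
      apply hfuniq
      rw [← AlgHom.comp_assoc, hψ]
    exact congrArg (fun χ : (D.obj j).right →ₐ[R] T => χ y) this

end indEtale

theorem existsUnique_algEquiv (R S S' K : Type u) [CommRing R]
    [CommRing S] [CommRing S'] [Field K] [HenselianLocalRing S] [HenselianLocalRing S']
    [Algebra R S] [Algebra R S'] [Algebra R K] (hS : EtPBC.IsIndEtale R S)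
    (hS' : EtPBC.IsIndEtale R S')
    (u : S →ₐ[R] K) (u' : S' →ₐ[R] K) (hu : Function.Surjective u) (hu' : Function.Surjective u')
    (hku : RingHom.ker u.toRingHom = IsLocalRing.maximalIdeal S)
    (hku' : RingHom.ker u'.toRingHom = IsLocalRing.maximalIdeal S') :
    ∃! e : S ≃ₐ[R] S', u'.comp (e : S →ₐ[R] S') = u := by
  obtain ⟨φ, hφ, hφuniq⟩ := existsUnique_algHom hS u' hu' hku' u
  obtain ⟨ψ, hψ, -⟩ := existsUnique_algHom hS' u hu hku u'
  have h1 : ψ.comp φ = AlgHom.id R S := by
    obtain ⟨χ, -, hχuniq⟩ := existsUnique_algHom hS u hu hku u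
    rw [hχuniq (ψ.comp φ) (by change u.comp (ψ.comp φ) = u; rw [← AlgHom.comp_assoc, hψ, hφ]),
      hχuniq (AlgHom.id R S) (AlgHom.comp_id u)]
  have h2 : φ.comp ψ = AlgHom.id R S' := by
    obtain ⟨χ, -, hχuniq⟩ := existsUnique_algHom hS' u' hu' hku' u'
    rw [hχuniq (φ.comp ψ) (by change u'.comp (φ.comp ψ) = u'; rw [← AlgHom.comp_assoc, hφ, hψ]),
      hχuniq (AlgHom.id R S') (AlgHom.comp_id u')]
  refine ⟨AlgEquiv.ofAlgHom φ ψ h2 h1, hφ, ?_⟩
  intro e' he'
  have : (e' : S →ₐ[R] S') = φ := hφuniq _ he'
  ext x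
  exact congrArg (fun χ : S →ₐ[R] S' => χ x) this

end Groth.Agent.H78.IndEtHens
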